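import Cfsg.Agent.Lib.Lie.OddSmall.Transitive
import Mathlib

/-!
An element of prime order `s` without fixed vectors normalizes no group of coprime order acting without fixed
vectors in which it centralizes only the identity; an element of order a primitive prime divisor is irreducible.
-/

set_option autoImplicit false
set_option linter.unusedSectionVars false
set_option linter.style.haveILetI false

namespace Cfsg.Agent.Perm.Kantor

open Cfsg.Agent.Lie.OddSmall

universe u v

variable {D : Type u} [Group D] [Finite D] {E : Type v} [AddCommGroup E] [Finite E]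
  [DistribMulAction D E] [FaithfulSMul D E] {p f s : ℕ} [Fact p.Prime] [Fact s.Prime]

theorem pow_conj_diff {a q d : D} (hd : d = q⁻¹ * (a * q * a⁻¹)) (hc : Commute a d) (i : ℕ) :
    a ^ i * q * (a ^ i)⁻¹ = q * d ^ i := by
  induction i with
  | zero => simp
  | succ i ih =>
    have h1 : a * q * a⁻¹ = q * d := by rw [hd]; group
    calc a ^ (i + 1) * q * (a ^ (i + 1))⁻¹ = a * (a ^ i * q * (a ^ i)⁻¹) * a⁻¹ := by
          rw [pow_succ']; group
      _ = (a * q * a⁻¹) * (a * d ^ i * a⁻¹) := by rw [ih]; group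
      _ = q * d ^ (i + 1) := by
          rw [h1, (hc.pow_right i).eq, mul_inv_cancel_right, pow_succ', mul_assoc]

/-- In a coprime action a displacement which is fixed is trivial. -/
theorem diff_eq_one {a q d : D} (ha : a ^ s = 1) (hd : d = q⁻¹ * (a * q * a⁻¹)) (hc : Commute a d)
    (hcop : (orderOf d).Coprime s) : d = 1 := by
  have h := pow_conj_diff hd hc s
  rw [ha, one_mul, inv_one, mul_one, left_eq_mul] at h
  exact orderOf_eq_one_iff.mp (hcop.eq_one_of_dvd (orderOf_dvd_of_pow_eq_one h))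

/-- The averaging argument. -/
theorem false_of_fpf [Nontrivial E] (a : D) (ha : orderOf a = s) (hfix : ∀ v : E, a • v = v → v = 0)
    (hp : ∀ v : E, p • v = 0) (Q : Subgroup D) (hQa : ∀ q ∈ Q, a * q * a⁻¹ ∈ Q)
    (hQ : ∀ q ∈ Q, a * q = q * a → q = 1) (hQfix : ∀ v : E, (∀ q ∈ Q, q • v = v) → v = 0)
    (hcop : (Nat.card Q).Coprime p) : False := by
  classical
  haveI := Fintype.ofFinite Q
  have has : a ^ s = 1 := ha ▸ pow_orderOf_eq_one a
  have hQpow : ∀ i : ℕ, ∀ q ∈ Q, a ^ i * q * (a ^ i)⁻¹ ∈ Q := by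
    intro i
    induction i with
    | zero => simp
    | succ i ih =>
      intro q hq
      have := hQa _ (ih q hq)
      rw [pow_succ']
      simpa [mul_assoc] using this
  -- the sum over a conjugate of `⟨a⟩`
  have horb : ∀ w : E, ∑ i ∈ Finset.range s, a ^ i • w = 0 := by
    intro w
    refine hfix _ ?_
    rw [Finset.smul_sum]
    have h1 : ∑ i ∈ Finset.range s, a • a ^ i • w = ∑ i ∈ Finset.range s, a ^ (i + 1) • w := by
      refine Finset.sum_congr rfl fun i _ => ?_
      rw [← mul_smul, ← pow_succ']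
    rw [h1]
    have h2 := Finset.sum_range_succ' (fun i => a ^ i • w) s
    have h3 := Finset.sum_range_succ (fun i => a ^ i • w) s
    rw [h3] at h2
    simp only [pow_zero, one_smul, has] at h2
    exact (add_right_cancel h2).symm
  -- the sum over `Q`
  have hQsum : ∀ w : E, ∑ x : Q, (x : D) • w = 0 := by
    intro w
    refine hQfix _ fun q hq => ?_
    rw [Finset.smul_sum]
    refine Fintype.sum_equiv (Equiv.mulLeft (⟨q, hq⟩ : Q)) _ _ fun x => ?_
    rw [← mul_smul]
    rfl
  obtain ⟨v, hv⟩ := exists_ne (0 : E)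
  have htot : ∑ i ∈ Finset.range s, ∑ q : Q, ((q : D) * a ^ i * (q : D)⁻¹) • v = 0 := by
    rw [Finset.sum_comm]
    refine Finset.sum_eq_zero fun q _ => ?_
    simp only [mul_smul]
    rw [← Finset.smul_sum, horb, smul_zero]
  rw [Finset.sum_eq_single 0 ?_ (fun h => absurd (Finset.mem_range.mpr (Fact.out : s.Prime).pos) h)] at htot
  · simp only [pow_zero, mul_one, mul_inv_cancel, one_smul, Finset.sum_const, Finset.card_univ,
      ← Nat.card_eq_fintype_card] at htot
    refine hv (AddMonoid.addOrderOf_eq_one_iff.mp ?_)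
    exact Nat.eq_one_of_dvd_coprimes hcop (addOrderOf_dvd_of_nsmul_eq_zero htot)
      (addOrderOf_dvd_of_nsmul_eq_zero (hp v))
  intro i hi hi0
  rw [Finset.mem_range] at hi
  let ψ : Q → Q := fun q => ⟨(q : D) * (a ^ i * (q : D)⁻¹ * (a ^ i)⁻¹), mul_mem q.2 (hQpow i _ (inv_mem q.2))⟩
  have hψ : Function.Injective ψ := by
    intro q q' h
    have h' : (q : D) * (a ^ i * (q : D)⁻¹ * (a ^ i)⁻¹) = (q' : D) * (a ^ i * (q' : D)⁻¹ * (a ^ i)⁻¹) :=
      congrArg Subtype.val h
    have hcom : Commute ((q' : D)⁻¹ * q) (a ^ i) := by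
      show (q' : D)⁻¹ * q * a ^ i = a ^ i * ((q' : D)⁻¹ * q)
      calc (q' : D)⁻¹ * q * a ^ i
          = (q' : D)⁻¹ * ((q : D) * (a ^ i * (q : D)⁻¹ * (a ^ i)⁻¹)) * (a ^ i * q) := by group
        _ = (q' : D)⁻¹ * ((q' : D) * (a ^ i * (q' : D)⁻¹ * (a ^ i)⁻¹)) * (a ^ i * q) := by rw [h']
        _ = a ^ i * ((q' : D)⁻¹ * q) := by group
    have hmem : a ∈ Subgroup.zpowers (a ^ i) := by
      obtain ⟨k, hk⟩ := exists_pow_eq_self_of_coprime (x := a) (n := i)
        (ha ▸ (Nat.coprime_of_lt_prime hi0 hi Fact.out).symm)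
      have h := Subgroup.npow_mem_zpowers (a ^ i) k
      rwa [hk] at h
    obtain ⟨k, hk⟩ := hmem
    have hcom' : Commute a ((q' : D)⁻¹ * q) := hk ▸ (hcom.symm.zpow_left k)
    exact Subtype.ext (inv_mul_eq_one.mp (hQ _ (mul_mem (inv_mem q'.2) q.2) hcom'.eq)).symm
  have hsum : ∑ q : Q, ((q : D) * a ^ i * (q : D)⁻¹) • v = ∑ x : Q, (x : D) • (a ^ i • v) := by
    refine Fintype.sum_bijective ψ (Finite.injective_iff_bijective.mp hψ) _ _ fun q => ?_
    rw [← mul_smul]
    congr 1
    show _ = (q : D) * (a ^ i * (q : D)⁻¹ * (a ^ i)⁻¹) * a ^ i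
    group
  rw [hsum]
  exact hQsum _

variable (hE : Nat.card E = p ^ f) (hsp : s ≠ p) (hs : ∀ k, 0 < k → k < f → ¬ s ∣ p ^ k - 1)

include hE hsp hs in
/-- An element of order `s` fixes no non-zero vector and is irreducible. -/
theorem irreducible_of_order (a : D) (ha : orderOf a = s) :
    (∀ v : E, a • v = v → v = 0) ∧
      ∀ U : AddSubgroup E, (∀ u ∈ U, a • u ∈ U) → U = ⊥ ∨ U = ⊤ := by
  classical
  have hsP : s.Prime := Fact.out
  have hpP : p.Prime := Fact.out
  -- comparison of an invariant subgroup with its fixed vectors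
  have key : ∀ U : AddSubgroup E, (∀ u ∈ U, a • u ∈ U) →
      ∀ m j, Nat.card U = p ^ m → Nat.card ↥(U ⊓ fixS a) = p ^ j → m = j ∨ (j = 0 ∧ m = f) := by
    intro U hU m j hm hj
    have hjm : j ≤ m := by
      have h := AddSubgroup.card_dvd_of_le (inf_le_left : U ⊓ fixS a ≤ U)
      rw [hm, hj] at h
      exact (Nat.pow_dvd_pow_iff_le_right hpP.one_lt).mp h
    have hmf : m ≤ f := by
      have h := U.card_addSubgroup_dvd_card
      rw [hm, hE] at h
      exact (Nat.pow_dvd_pow_iff_le_right hpP.one_lt).mp h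
    have hA : IsPGroup s (Subgroup.zpowers a) :=
      IsPGroup.of_card (n := 1) (by rw [Nat.card_zpowers, ha, pow_one])
    have hUz : ∀ b ∈ Subgroup.zpowers a, ∀ u ∈ U, b • u ∈ U := by
      intro b hb u hu
      obtain ⟨k, rfl⟩ := mem_powers_iff_mem_zpowers.mpr hb
      show a ^ k • u ∈ U
      clear hb
      induction k with
      | zero => simpa using hu
      | succ k ih => rw [pow_succ', mul_smul]; exact hU _ ih
    letI : MulAction (Subgroup.zpowers a) U :=
      { smul := fun b u => ⟨(b : D) • (u : E), hUz b b.2 u u.2⟩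
        one_smul := fun u => Subtype.ext (one_smul D (u : E))
        mul_smul := fun b c u => Subtype.ext (mul_smul (b : D) (c : D) (u : E)) }
    have h := hA.card_modEq_card_fixedPoints U
    have e : Nat.card (MulAction.fixedPoints (Subgroup.zpowers a) U) = Nat.card ↥(U ⊓ fixS a) := by
      refine Nat.card_congr
        { toFun := fun x => ⟨(x.1 : E), x.1.2, congrArg Subtype.val (x.2 ⟨a, Subgroup.mem_zpowers a⟩)⟩
          invFun := fun x => ⟨⟨x.1, x.2.1⟩, fun b => Subtype.ext ?_⟩
          left_inv := fun x => rfl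
          right_inv := fun x => rfl }
      obtain ⟨k, hk⟩ := mem_powers_iff_mem_zpowers.mpr b.2
      show (b : D) • (x.1 : E) = x.1
      rw [← show a ^ k = (b : D) from hk]
      exact smul_pow_fixed x.2.2 k
    rw [e, hm, hj] at h
    have hd : s ∣ p ^ j * (p ^ (m - j) - 1) := by
      rw [Nat.mul_sub, ← pow_add, Nat.add_sub_cancel' hjm, mul_one]
      exact (Nat.modEq_iff_dvd' (Nat.pow_le_pow_right hpP.pos hjm)).mp h.symm
    have hd' : s ∣ p ^ (m - j) - 1 :=
      (((Nat.coprime_primes hsP hpP).mpr hsp).pow_right j).dvd_of_dvd_mul_left hd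
    by_cases hmj : m = j
    · exact Or.inl hmj
    refine Or.inr ?_
    have : ¬ (m - j < f) := fun hlt => hs (m - j) (by omega) hlt hd'
    omega
  have hpow : ∀ U : AddSubgroup E, ∃ m, m ≤ f ∧ Nat.card U = p ^ m := fun U =>
    (Nat.dvd_prime_pow hpP).mp (hE ▸ U.card_addSubgroup_dvd_card)
  have hfix : ∀ v : E, a • v = v → v = 0 := by
    obtain ⟨j, -, hj⟩ := hpow (fixS a)
    rcases key ⊤ (fun _ _ => trivial) f j (by rw [AddSubgroup.card_top, hE]) (by rw [top_inf_eq, hj]) with h | h
    · exfalso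
      have htop : fixS (E := E) a = ⊤ := AddSubgroup.eq_top_of_card_eq _ (by rw [hj, ← h, hE])
      have h1 : a = 1 := eq_of_smul_eq_smul (α := E) fun e => by
        rw [one_smul]
        exact mem_fixS.mp (htop ▸ AddSubgroup.mem_top e)
      rw [h1, orderOf_one] at ha
      exact hsP.one_lt.ne ha
    · intro v hv
      have hbot : fixS (E := E) a = ⊥ := AddSubgroup.eq_bot_of_card_eq _ (by rw [hj, h.1, pow_zero])
      exact AddSubgroup.mem_bot.mp (hbot ▸ mem_fixS.mpr hv)
  refine ⟨hfix, fun U hU => ?_⟩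
  obtain ⟨m, -, hm⟩ := hpow U
  have hbot : U ⊓ fixS a = ⊥ := (AddSubgroup.eq_bot_iff_forall _).mpr fun x hx => hfix x hx.2
  rcases key U hU m 0 hm (by rw [hbot, AddSubgroup.card_bot, pow_zero]) with h | h
  · exact Or.inl (AddSubgroup.eq_bot_of_card_eq _ (by rw [hm, h, pow_zero]))
  · exact Or.inr (AddSubgroup.eq_top_of_card_eq _ (by rw [hm, h.2, hE]))

end Cfsg.Agent.Perm.Kantor
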