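import Cfsg.Agent.Lib.Perm.Kantor.Average
import Cfsg.Agent.Lib.OddChar.FT.AltRadical
import Mathlib

/-!
An element of order a large primitive prime divisor centralizes every coprime `r`-subgroup which it normalizes:
otherwise a minimal such subgroup has class two with a fixed point free action on the central quotient of order
`t ^ 2`, and its elements span at most `f ^ 2` dimensions over the field of the centre, so `t ≤ f`.
-/

set_option autoImplicit false
set_option linter.unusedSectionVars false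
set_option linter.style.haveILetI false

open scoped commutatorElement

namespace Cfsg.Agent.Perm.Kantor

open Cfsg.Agent.Lie.OddSmall

universe u v

variable {D : Type u} [Group D] [Finite D] {E : Type v} [AddCommGroup E] [Finite E]
  [DistribMulAction D E] [FaithfulSMul D E] {p f s r : ℕ} [Fact p.Prime] [Fact s.Prime] [Fact r.Prime]

/-- Inside an `r`-group, all `r`-th powers and commutators lie in a proper subgroup. -/
theorem exists_maximal_basic (Q : Subgroup D) (hQ : IsPGroup r Q) (hne : Q ≠ ⊥) :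
    ∃ M : Subgroup D, M ≤ Q ∧ M ≠ Q ∧ (∀ x ∈ Q, x ^ r ∈ M) ∧ ∀ x ∈ Q, ∀ y ∈ Q, ⁅x, y⁆ ∈ M := by
  obtain ⟨n, hn⟩ := IsPGroup.iff_card.mp hQ
  have hr : r.Prime := Fact.out
  have hn0 : n ≠ 0 := fun h => hne (Subgroup.eq_bot_of_card_eq _ (by rw [hn, h, pow_zero]))
  obtain ⟨M, hM⟩ := Sylow.exists_subgroup_card_pow_prime r (n := n - 1) (G := Q)
    (by rw [hn]; exact pow_dvd_pow r (Nat.sub_le n 1))
  have hidx : M.index = r := by
    have h1 := Subgroup.card_mul_index M
    rw [hM, hn] at h1
    refine Nat.eq_of_mul_eq_mul_left (pow_pos hr.pos (n - 1)) (h1.trans ?_)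
    rw [← pow_succ, Nat.sub_add_cancel (Nat.one_le_iff_ne_zero.2 hn0)]
  haveI hMn : M.Normal := Subgroup.normal_of_index_eq_minFac_card (by
    rw [hidx, hn, Nat.pow_minFac hn0, hr.minFac_eq])
  refine ⟨M.map Q.subtype, Subgroup.map_subtype_le M, fun h => ?_, fun x hx => ?_, fun x hx y hy => ?_⟩
  · have : M = ⊤ := Subgroup.map_injective Q.subtype_injective (by rw [h, ← MonoidHom.range_eq_map, Q.range_subtype])
    rw [this, Subgroup.index_top] at hidx
    exact hr.one_lt.ne hidx
  · have h := Subgroup.pow_index_mem (H := M) (⟨x, hx⟩ : Q)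
    rw [hidx] at h
    exact ⟨_, h, rfl⟩
  · have hcq : Nat.card (Q ⧸ M) = r := by rw [← Subgroup.index_eq_card, hidx]
    haveI : IsCyclic (Q ⧸ M) := isCyclic_of_prime_card hcq
    haveI : IsMulCommutative (Q ⧸ M) := IsCyclic.isMulCommutative
    have h : ⁅(⟨x, hx⟩ : Q), ⟨y, hy⟩⁆ ∈ M := by
      rw [← QuotientGroup.eq_one_iff, ← QuotientGroup.mk'_apply, map_commutatorElement,
        commutatorElement_eq_one_iff_mul_comm]
      exact mul_comm' _ _
    exact ⟨_, h, rfl⟩

/-- The conjugates of a normalized subgroup form an action of `⟨a⟩`. -/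
theorem conj_pow_mem {a : D} {Q : Subgroup D} (hQa : ∀ q ∈ Q, a * q * a⁻¹ ∈ Q) :
    ∀ b ∈ Subgroup.zpowers a, ∀ q ∈ Q, b * q * b⁻¹ ∈ Q := by
  intro b hb
  obtain ⟨k, rfl⟩ := mem_powers_iff_mem_zpowers.mpr hb
  intro q hq
  show a ^ k * q * (a ^ k)⁻¹ ∈ Q
  clear hb
  induction k with
  | zero => simpa using hq
  | succ k ih =>
    have := hQa _ ih
    rw [pow_succ']
    simpa [mul_assoc] using this

/-- The fixed points of a normalized subgroup, counted modulo `s`. -/
theorem card_modEq_centralizer {a : D} (ha : orderOf a = s) {Q C : Subgroup D}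
    (hQa : ∀ q ∈ Q, a * q * a⁻¹ ∈ Q) (hC : ∀ q : D, q ∈ C ↔ q ∈ Q ∧ a * q = q * a) :
    Nat.card Q ≡ Nat.card C [MOD s] := by
  have hA : IsPGroup s (Subgroup.zpowers a) :=
    IsPGroup.of_card (n := 1) (by rw [Nat.card_zpowers, ha, pow_one])
  letI : MulAction (Subgroup.zpowers a) Q :=
    { smul := fun b q => ⟨(b : D) * q * (b : D)⁻¹, conj_pow_mem hQa b b.2 q q.2⟩
      one_smul := fun q => Subtype.ext (show (1 : D) * q * (1 : D)⁻¹ = q by group)
      mul_smul := fun b c q => Subtype.ext (show ((b : D) * c) * q * ((b : D) * c)⁻¹ =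
        b * (c * q * (c : D)⁻¹) * (b : D)⁻¹ by group) }
  have h := hA.card_modEq_card_fixedPoints Q
  have e : Nat.card (MulAction.fixedPoints (Subgroup.zpowers a) Q) = Nat.card C := by
    refine Nat.card_congr
      { toFun := fun x => ⟨(x.1 : D), (hC _).mpr ⟨x.1.2, ?_⟩⟩
        invFun := fun x => ⟨⟨x.1, ((hC _).mp x.2).1⟩, fun b => Subtype.ext ?_⟩
        left_inv := fun x => rfl
        right_inv := fun x => rfl }
    · have h1 : a * (x.1 : D) * a⁻¹ = x.1 := congrArg Subtype.val (x.2 ⟨a, Subgroup.mem_zpowers a⟩)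
      exact mul_inv_eq_iff_eq_mul.mp h1
    · obtain ⟨k, hk⟩ := mem_powers_iff_mem_zpowers.mpr b.2
      have hc : Commute (b : D) x.1 := hk ▸ (show Commute a x.1 from ((hC _).mp x.2).2).pow_left k
      show (b : D) * x.1 * (b : D)⁻¹ = x.1
      rw [hc.eq, mul_inv_cancel_right]
  rwa [e] at h

/-- The endomorphisms given by a set of coset representatives of the centre are independent. -/
theorem index_le_sq [Nontrivial E] (hE : Nat.card E = p ^ f) (a : D)
    (hirr : ∀ U : AddSubgroup E, (∀ u ∈ U, a • u ∈ U) → U = ⊥ ∨ U = ⊤) (Q : Subgroup D)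
    (hZa : ∀ z : Q, z ∈ Subgroup.center Q → a * (z : D) = z * a)
    (hclass : ∀ x y : Q, ⁅x, y⁆ ∈ Subgroup.center Q) :
    (Subgroup.center Q).index ≤ f * f := by
  classical
  let act : D →* AddMonoid.End E := DistribMulAction.toAddMonoidEnd D E
  let K : Subring (AddMonoid.End E) := Subring.centralizer (act '' insert a (Q : Set D))
  have hcomm : ∀ (c : K) (d : D), d ∈ insert a (Q : Set D) → ∀ v : E,
      (c : AddMonoid.End E) (d • v) = d • (c : AddMonoid.End E) v := fun c d hd v =>
    (DFunLike.congr_fun (Subring.mem_centralizer_iff.mp c.2 (act d) ⟨d, hd, rfl⟩) v).symm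
  have hinj : ∀ c : K, c ≠ 0 → Function.Injective (c : AddMonoid.End E) := by
    intro c hc
    rcases hirr (AddMonoidHom.ker (c : AddMonoid.End E)) (fun u hu => by
      change (c : AddMonoid.End E) (a • u) = 0
      rw [hcomm c a (Set.mem_insert _ _), show (c : AddMonoid.End E) u = 0 from hu, smul_zero]) with h | h
    · exact (AddMonoidHom.ker_eq_bot_iff _).mp h
    · refine absurd (Subtype.ext (AddMonoidHom.ext fun u => ?_)) hc
      exact (h ▸ AddSubgroup.mem_top u : u ∈ AddMonoidHom.ker (c : AddMonoid.End E))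
  haveI : Nontrivial K := ⟨⟨0, 1, fun h => by
    obtain ⟨v, hv⟩ := exists_ne (0 : E)
    exact hv (DFunLike.congr_fun (congrArg Subtype.val h) v).symm⟩⟩
  haveI : NoZeroDivisors K := ⟨fun {c c'} h => by
    by_cases hc : c = 0
    · exact Or.inl hc
    refine Or.inr (Subtype.ext (AddMonoidHom.ext fun u => hinj c hc ?_))
    exact (DFunLike.congr_fun (congrArg Subtype.val h) u).trans (map_zero _).symm⟩
  haveI : IsDomain K := NoZeroDivisors.to_isDomain K
  haveI : Finite (AddMonoid.End E) :=
    Finite.of_injective (fun c : AddMonoid.End E => (c : E → E)) DFunLike.coe_injective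
  letI : Field K := (Finite.isDomain_to_isField K).toField
  letI : Module K E :=
    { smul := fun c x => (c : AddMonoid.End E) x
      one_smul := fun _ => rfl
      mul_smul := fun _ _ _ => rfl
      smul_zero := fun c => map_zero (c : AddMonoid.End E)
      smul_add := fun c => map_add (c : AddMonoid.End E)
      add_smul := fun _ _ _ => rfl
      zero_smul := fun _ => rfl }
  haveI : Module.Finite K E := Module.Finite.of_finite
  -- the centre gives scalars
  have hZK : ∀ z : Q, z ∈ Subgroup.center Q → act (z : D) ∈ K := by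
    intro z hz
    refine Subring.mem_centralizer_iff.mpr ?_
    rintro _ ⟨d, hd, rfl⟩
    rw [← map_mul, ← map_mul]
    rcases Set.mem_insert_iff.mp hd with rfl | hd
    · rw [hZa z hz]
    · exact congrArg (fun t : Q => act (t : D)) (Subgroup.mem_center_iff.mp hz ⟨d, hd⟩)
  let L : Q → Module.End K E := fun x =>
    { toFun := fun v => (x : D) • v
      map_add' := smul_add (x : D)
      map_smul' := fun c v => (hcomm c x (Set.mem_insert_of_mem _ x.2) v).symm }
  -- the weight of a coset
  let w : Q → (Q →* K) := fun x =>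
    { toFun := fun y => ⟨act (⁅y, x⁆ : Q), hZK _ (hclass y x)⟩
      map_one' := Subtype.ext (show act ((⁅(1 : Q), x⁆ : Q) : D) = 1 by
        rw [commutatorElement_one_left]; exact map_one act)
      map_mul' := fun y y' => Subtype.ext (by
        have h1 : ⁅y * y', x⁆ = ⁅y, x⁆ * ⁅y', x⁆ := by
          have hz := Subgroup.mem_center_iff.mp (hclass y' x)
          calc ⁅y * y', x⁆ = y * ⁅y', x⁆ * (x * y⁻¹ * x⁻¹) := by simp only [commutatorElement_def]; group
            _ = ⁅y', x⁆ * y * (x * y⁻¹ * x⁻¹) := by rw [hz y]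
            _ = ⁅y', x⁆ * ⁅y, x⁆ := by simp only [commutatorElement_def]; group
            _ = ⁅y, x⁆ * ⁅y', x⁆ := (hz _).symm
        show act ((⁅y * y', x⁆ : Q) : D) = act ((⁅y, x⁆ : Q) : D) * act ((⁅y', x⁆ : Q) : D)
        rw [h1, Subgroup.coe_mul, map_mul]) }
  let R : Q ⧸ Subgroup.center Q → Q := Quotient.out
  have hwinj : Function.Injective fun i => w (R i) := by
    intro i j hij
    have h : (R i)⁻¹ * R j ∈ Subgroup.center Q := by
      refine Subgroup.mem_center_iff.mpr fun y => ?_
      have h1 : act ((⁅y, R i⁆ : Q) : D) = act ((⁅y, R j⁆ : Q) : D) :=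
        congrArg Subtype.val (DFunLike.congr_fun hij y)
      have h2 : ⁅y, R i⁆ = ⁅y, R j⁆ := Subtype.ext (eq_of_smul_eq_smul (α := E) fun e => DFunLike.congr_fun h1 e)
      have h3 : y * R i * y⁻¹ * (R i)⁻¹ = y * R j * y⁻¹ * (R j)⁻¹ := h2
      calc y * ((R i)⁻¹ * R j) = (R i)⁻¹ * ((y * R i * y⁻¹ * (R i)⁻¹)⁻¹ * (y * R j * y⁻¹ * (R j)⁻¹)) *
            R j * y := by group
        _ = (R i)⁻¹ * R j * y := by rw [h3, inv_mul_cancel, mul_one]
    have := QuotientGroup.eq.mpr h
    rwa [QuotientGroup.out_eq', QuotientGroup.out_eq'] at this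
  have hli : LinearIndependent K fun i => L (R i) := by
    haveI := Fintype.ofFinite (Q ⧸ Subgroup.center Q)
    rw [Fintype.linearIndependent_iff]
    intro c hc i₀
    by_contra hne
    obtain ⟨v, hv⟩ := exists_ne (0 : E)
    -- the sum vanishes after conjugation
    have hy : ∀ (y : Q) (v : E), ∑ i, (w (R i) y) • (c i • (R i : D) • v) = 0 := by
      intro y v
      have h0 : ∀ u : E, ∑ i, c i • (R i : D) • u = 0 := fun u => by
        have := LinearMap.congr_fun hc u
        simpa [LinearMap.sum_apply, L] using this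
      have h1 := congrArg (fun t => (y : D) • t) (h0 ((y : D)⁻¹ • v))
      simp only [smul_zero, Finset.smul_sum] at h1
      refine Eq.trans (Finset.sum_congr rfl fun i _ => ?_) h1
      have e : ((⁅y, R i⁆ : Q) : D) * (R i : D) = (y : D) * (R i : D) * (y : D)⁻¹ := by
        rw [← Subgroup.coe_mul, commutatorElement_def, inv_mul_cancel_right]
        rfl
      show ((⁅y, R i⁆ : Q) : D) • (c i : AddMonoid.End E) ((R i : D) • v) =
        (y : D) • (c i : AddMonoid.End E) ((R i : D) • (y : D)⁻¹ • v)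
      rw [← hcomm (c i) _ (Set.mem_insert_of_mem _ (⁅y, R i⁆ : Q).2), ← hcomm (c i) _ (Set.mem_insert_of_mem _ y.2),
        ← mul_smul, ← mul_smul, ← mul_smul, e]
    obtain ⟨φ, hφ⟩ : ∃ φ : E →ₗ[K] K, φ (c i₀ • (R i₀ : D) • v) ≠ 0 := by
      by_contra hall
      push Not at hall
      refine hv ?_
      have h1 : c i₀ • (R i₀ : D) • v = 0 := (Module.forall_dual_apply_eq_zero_iff K _).mp hall
      rcases smul_eq_zero.mp h1 with h | h
      · exact absurd h hne
      · exact (smul_eq_zero_iff_eq _).mp h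
    refine hφ (Fintype.linearIndependent_iff.mp ((linearIndependent_monoidHom Q K).comp _ hwinj)
      (fun i => φ (c i • (R i : D) • v)) ?_ i₀)
    funext y
    have h := congrArg φ (hy y v)
    rw [map_sum, map_zero] at h
    simp only [map_smul, smul_eq_mul] at h
    simp only [Finset.sum_apply, Pi.smul_apply, Function.comp_apply, map_smul, smul_eq_mul, Pi.zero_apply]
    exact Eq.trans (Finset.sum_congr rfl fun i _ => mul_comm _ _) h
  haveI := Fintype.ofFinite (Q ⧸ Subgroup.center Q)
  have h1 := hli.fintype_card_le_finrank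
  rw [Module.finrank_linearMap, ← Nat.card_eq_fintype_card, ← Subgroup.index_eq_card] at h1
  have hp : p.Prime := Fact.out
  have hd : Module.finrank K E ≤ f := by
    have hc : p ^ f = Nat.card K ^ Module.finrank K E := hE ▸ Module.natCard_eq_pow_finrank
    have hpos : 0 < Module.finrank K E := Module.finrank_pos
    obtain ⟨e, -, he⟩ := (Nat.dvd_prime_pow hp).mp (hc ▸ dvd_pow_self (Nat.card K) hpos.ne')
    have he0 : e ≠ 0 := fun h => by
      have := Finite.one_lt_card (α := K)
      rw [he, h, pow_zero] at this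
      exact lt_irrefl 1 this
    rw [he, ← pow_mul] at hc
    rw [Nat.pow_right_injective hp.two_le hc]
    exact Nat.le_mul_of_pos_left _ (Nat.pos_of_ne_zero he0)
  exact h1.trans (Nat.mul_le_mul hd hd)

variable (hE : Nat.card E = p ^ f) (hsp : s ≠ p) (hs : ∀ k, 0 < k → k < f → ¬ s ∣ p ^ k - 1)
  (hbig : f + 1 < s) (hpE : ∀ v : E, p • v = 0)

include hE hsp hs hbig hpE in
set_option maxHeartbeats 1000000 in
/-- An element of order `s` centralizes every `r`-subgroup which it normalizes. -/
theorem centralizes [Nontrivial E] (a : D) (ha : orderOf a = s) (hrp : r ≠ p) (hrs : r ≠ s) :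
    ∀ n : ℕ, ∀ Q : Subgroup D, Nat.card Q ≤ n → IsPGroup r Q → (∀ q ∈ Q, a * q * a⁻¹ ∈ Q) →
      ∀ q ∈ Q, a * q = q * a := by
  classical
  have hsP : s.Prime := Fact.out
  have hrP : r.Prime := Fact.out
  have has : a ^ s = 1 := ha ▸ pow_orderOf_eq_one a
  obtain ⟨hfix, hirr⟩ := irreducible_of_order hE hsp hs a ha
  obtain ⟨hcyc, -⟩ := centralizer_irreducible a hirr
  intro n
  induction n with
  | zero => intro Q hQ; exact absurd Nat.card_pos (by omega : ¬ 0 < Nat.card Q)
  | succ n ih =>
    intro Q hcard hQr hQa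
    by_contra hnc
    have hne : Q ≠ ⊥ := fun h => hnc fun q hq => by
      rw [h, Subgroup.mem_bot] at hq; simp [hq]
    have hord : ∀ d ∈ Q, (orderOf d).Coprime s := by
      intro d hd
      obtain ⟨k, hk⟩ := IsPGroup.iff_card.mp hQr
      exact Nat.Coprime.coprime_dvd_left (hk ▸ Subgroup.orderOf_dvd_natCard Q hd)
        (((Nat.coprime_primes hrP hsP).mpr hrs).pow_left k)
    -- proper invariant subgroups are centralized
    have hsmall : ∀ U ≤ Q, U ≠ Q → (∀ u ∈ U, a * u * a⁻¹ ∈ U) → ∀ u ∈ U, a * u = u * a := by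
      intro U hU hUne hUa
      refine ih U ?_ (hQr.to_le hU) hUa
      have hlt : Nat.card U < Nat.card Q :=
        lt_of_le_of_ne (Nat.le_of_dvd Nat.card_pos (Subgroup.card_dvd_of_le hU)) fun h => hUne (Subgroup.eq_of_le_of_card_ge hU h.ge)
      omega
    -- normal centralized subgroups are central
    have hcentral : ∀ C ≤ Q, (∀ c ∈ C, a * c = c * a) → (∀ q ∈ Q, ∀ c ∈ C, q * c * q⁻¹ ∈ C) →
        ∀ q ∈ Q, ∀ c ∈ C, c * q = q * c := by
      intro C hC hCa hCn
      let N := Q ⊓ Subgroup.centralizer (C : Set D)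
      have hNa : ∀ u ∈ N, a * u * a⁻¹ ∈ N := by
        refine fun u hu => ⟨hQa u hu.1, Subgroup.mem_centralizer_iff.mpr fun c hc => ?_⟩
        have h1 : c * u = u * c := Subgroup.mem_centralizer_iff.mp hu.2 c hc
        calc c * (a * u * a⁻¹) = a * (c * u) * a⁻¹ := by rw [← mul_assoc, ← mul_assoc, ← hCa c hc]; group
          _ = a * (u * c) * a⁻¹ := by rw [h1]
          _ = a * u * a⁻¹ * (a * c * a⁻¹) := by group
          _ = a * u * a⁻¹ * c := by rw [hCa c hc, mul_inv_cancel_right]
      by_cases hN : N = Q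
      · intro q hq c hc
        exact Subgroup.mem_centralizer_iff.mp ((hN ▸ hq : q ∈ N).2) c hc
      have hNc := hsmall N inf_le_left hN hNa
      exfalso
      refine hnc fun q hq => ?_
      have hd : q⁻¹ * (a * q * a⁻¹) ∈ N := by
        refine ⟨Q.mul_mem (Q.inv_mem hq) (hQa q hq), Subgroup.mem_centralizer_iff.mpr fun c hc => ?_⟩
        have h1 : a * (q * c * q⁻¹) = q * c * q⁻¹ * a := hCa _ (hCn q hq c hc)
        have h2 : a * q * a⁻¹ * c * (a * q⁻¹ * a⁻¹) = q * c * q⁻¹ := by
          calc a * q * a⁻¹ * c * (a * q⁻¹ * a⁻¹) = a * q * a⁻¹ * (c * a) * (q⁻¹ * a⁻¹) := by group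
            _ = a * q * a⁻¹ * (a * c) * (q⁻¹ * a⁻¹) := by rw [hCa c hc]
            _ = a * (q * c * q⁻¹) * a⁻¹ := by group
            _ = q * c * q⁻¹ := by rw [h1, mul_inv_cancel_right]
        calc c * (q⁻¹ * (a * q * a⁻¹)) = q⁻¹ * (q * c * q⁻¹) * (a * q * a⁻¹) := by group
          _ = q⁻¹ * (a * q * a⁻¹ * c * (a * q⁻¹ * a⁻¹)) * (a * q * a⁻¹) := by rw [h2]
          _ = q⁻¹ * (a * q * a⁻¹) * c := by group
      have h3 := diff_eq_one has rfl (hNc _ hd) (hord _ hd.1)
      rw [inv_mul_eq_one, eq_mul_inv_iff_mul_eq] at h3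
      exact h3.symm
    -- the fixed points form a normal subgroup
    let C := Q ⊓ Subgroup.centralizer ({a} : Set D)
    have hCmem : ∀ q : D, q ∈ C ↔ q ∈ Q ∧ a * q = q * a := fun q => by
      show q ∈ Q ∧ q ∈ Subgroup.centralizer ({a} : Set D) ↔ _
      rw [Subgroup.mem_centralizer_singleton_iff]
      exact ⟨fun h => ⟨h.1, h.2.symm⟩, fun h => ⟨h.1, h.2.symm⟩⟩
    have hCne : C ≠ Q := fun h => hnc fun q hq => ((hCmem q).mp (h ▸ hq)).2
    have hCn : ∀ q ∈ Q, ∀ c ∈ C, q * c * q⁻¹ ∈ C := by
      haveI := hQr.isNilpotent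
      have hlt : C.subgroupOf Q < ⊤ := lt_top_iff_ne_top.mpr fun h =>
        hCne (le_antisymm inf_le_left (Subgroup.subgroupOf_eq_top.mp h))
      have hgrow := Group.normalizerCondition_of_isNilpotent (G := Q) (C.subgroupOf Q) hlt
      let M := (Subgroup.normalizer ((C.subgroupOf Q : Subgroup Q) : Set Q)).map Q.subtype
      have hMmem : ∀ q : D, q ∈ M → ∃ hq : q ∈ Q, ∀ c : D, c ∈ C ↔ q * c * q⁻¹ ∈ C := by
        rintro _ ⟨⟨q, hq⟩, hn, rfl⟩
        refine ⟨hq, fun c => ?_⟩
        by_cases hcQ : c ∈ Q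
        · exact Subgroup.mem_normalizer_iff.mp hn ⟨c, hcQ⟩
        · refine iff_of_false (fun h => hcQ ((hCmem c).mp h).1) fun h => hcQ ?_
          have := mul_mem (mul_mem (inv_mem hq) ((hCmem _).mp h).1) hq
          simpa [mul_assoc] using this
      have hMa : ∀ u ∈ M, a * u * a⁻¹ ∈ M := by
        intro u hu
        obtain ⟨huQ, hun⟩ := hMmem u hu
        refine ⟨⟨a * u * a⁻¹, hQa u huQ⟩, Subgroup.mem_normalizer_iff.mpr fun c => ?_, rfl⟩
        have key : ∀ e : D, e ∈ C ↔ a⁻¹ * e * a ∈ C := by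
          intro e
          constructor
          · intro he
            rwa [mul_assoc, ← ((hCmem e).mp he).2, inv_mul_cancel_left]
          · intro he
            have h1 := ((hCmem _).mp he).2
            rw [show a * (a⁻¹ * e * a) = e * a by group] at h1
            rwa [← mul_right_cancel h1] at he
        show (c : D) ∈ C ↔ a * u * a⁻¹ * c * (a * u * a⁻¹)⁻¹ ∈ C
        rw [key c, hun (a⁻¹ * c * a), key (a * u * a⁻¹ * c * (a * u * a⁻¹)⁻¹)]
        have e : a⁻¹ * (a * u * a⁻¹ * (c : D) * (a * u * a⁻¹)⁻¹) * a = u * (a⁻¹ * c * a) * u⁻¹ := by group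
        rw [e]
      have hMQ : M = Q := by
        by_contra hMne
        have hMc := hsmall M (Subgroup.map_subtype_le _) hMne hMa
        obtain ⟨x, hx, hxC⟩ := SetLike.exists_of_lt hgrow
        exact hxC ((hCmem _).mpr ⟨x.2, hMc x ⟨x, hx, rfl⟩⟩)
      intro q hq c hc
      exact ((hMmem q (hMQ.symm ▸ hq)).2 c).mp hc
    have hCcen := hcentral C inf_le_left (fun c hc => ((hCmem c).mp hc).2) hCn
    have hcentre : ∀ z : Q, z ∈ Subgroup.center Q ↔ (z : D) ∈ C := by
      intro z
      refine ⟨fun hz => (hCmem _).mpr ⟨z.2, ?_⟩, fun hz => Subgroup.mem_center_iff.mpr fun y =>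
        Subtype.ext (hCcen y y.2 z hz).symm⟩
      let Z := (Subgroup.center Q).map Q.subtype
      by_cases hZ : Z = Q
      · -- abelian
        exfalso
        have hab : ∀ x ∈ Q, ∀ y ∈ Q, x * y = y * x := by
          intro x hx y hy
          obtain ⟨⟨x', hx'⟩, hxc, rfl⟩ : x ∈ Z := hZ.symm ▸ hx
          exact (congrArg Subtype.val (Subgroup.mem_center_iff.mp hxc ⟨y, hy⟩)).symm
        let A : Subgroup D :=
          { carrier := {d | ∃ q ∈ Q, d = q⁻¹ * (a * q * a⁻¹)}
            one_mem' := ⟨1, one_mem _, by group⟩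
            mul_mem' := by
              rintro _ _ ⟨x, hx, rfl⟩ ⟨y, hy, rfl⟩
              refine ⟨x * y, mul_mem hx hy, ?_⟩
              have h1 : a * x * a⁻¹ * y⁻¹ = y⁻¹ * (a * x * a⁻¹) := hab _ (hQa x hx) _ (inv_mem hy)
              calc x⁻¹ * (a * x * a⁻¹) * (y⁻¹ * (a * y * a⁻¹)) = x⁻¹ * (a * x * a⁻¹ * y⁻¹) * (a * y * a⁻¹) := by
                    group
                _ = (x⁻¹ * y⁻¹) * (a * x * y * a⁻¹) := by rw [h1]; group
                _ = (x * y)⁻¹ * (a * (x * y) * a⁻¹) := by rw [hab _ (inv_mem hx) _ (inv_mem hy)]; group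
            inv_mem' := by
              rintro _ ⟨x, hx, rfl⟩
              refine ⟨x⁻¹, inv_mem hx, ?_⟩
              rw [hab _ (inv_mem (inv_mem hx)) _ (hQa _ (inv_mem hx))]
              group }
        have hAQ : ∀ d ∈ A, d ∈ Q := by
          rintro _ ⟨x, hx, rfl⟩
          exact mul_mem (inv_mem hx) (hQa x hx)
        obtain ⟨k, hk⟩ := IsPGroup.iff_card.mp (hQr.to_le hAQ)
        have hA0 : A ≠ ⊥ := fun h => hnc fun q hq => by
          have h1 : q⁻¹ * (a * q * a⁻¹) = 1 := Subgroup.mem_bot.mp (h ▸ ⟨q, hq, rfl⟩)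
          rw [inv_mul_eq_one, eq_mul_inv_iff_mul_eq] at h1
          exact h1.symm
        have hAa : ∀ d ∈ A, a * d * a⁻¹ ∈ A := by
          rintro _ ⟨x, hx, rfl⟩
          exact ⟨a * x * a⁻¹, hQa x hx, by group⟩
        refine false_of_fpf (p := p) a ha hfix hpE A hAa ?_ ?_
          (hk ▸ ((Nat.coprime_primes hrP Fact.out).mpr hrp).pow_left k)
        · intro d hd hcd
          obtain ⟨x, hx, hdx⟩ := hd
          exact diff_eq_one has hdx hcd (hord d (hAQ d ⟨x, hx, hdx⟩))
        · intro v hv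
          let U : AddSubgroup E :=
            { carrier := {x | ∀ d ∈ A, d • x = x}
              add_mem' := fun {x y} hx hy d hd => by rw [smul_add, hx d hd, hy d hd]
              zero_mem' := fun d _ => smul_zero d
              neg_mem' := fun {x} hx d hd => by rw [smul_neg, hx d hd] }
          rcases hirr U (fun u hu d hd => by
            have h1 : a⁻¹ * d * a ∈ A := by
              have := conj_pow_mem hAa a⁻¹ (inv_mem (Subgroup.mem_zpowers a)) d hd
              simpa using this
            have h2 := hu _ h1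
            rw [mul_smul, mul_smul, inv_smul_eq_iff] at h2
            exact h2) with hU | hU
          · exact AddSubgroup.mem_bot.mp (hU ▸ hv : v ∈ (⊥ : AddSubgroup E))
          · exfalso
            refine hA0 (eq_bot_iff.mpr fun d hd => Subgroup.mem_bot.mpr ?_)
            exact eq_of_smul_eq_smul (α := E) fun e => by
              rw [one_smul]; exact (hU ▸ AddSubgroup.mem_top e : e ∈ U) d hd
      refine hsmall Z (Subgroup.map_subtype_le _) hZ ?_ z ⟨z, hz, rfl⟩
      rintro _ ⟨u, hu, rfl⟩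
      refine ⟨⟨a * (u : D) * a⁻¹, hQa _ u.2⟩, Subgroup.mem_center_iff.mpr fun y => Subtype.ext ?_, rfl⟩
      have hy : a⁻¹ * (y : D) * a ∈ Q := by
        have := conj_pow_mem hQa a⁻¹ (inv_mem (Subgroup.mem_zpowers a)) y y.2
        simpa using this
      have h1 : a⁻¹ * (y : D) * a * u = u * (a⁻¹ * (y : D) * a) :=
        congrArg Subtype.val (Subgroup.mem_center_iff.mp hu ⟨_, hy⟩)
      show (y : D) * (a * u * a⁻¹) = a * u * a⁻¹ * y
      calc (y : D) * (a * u * a⁻¹) = a * (a⁻¹ * (y : D) * a * u) * a⁻¹ := by group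
        _ = a * (u * (a⁻¹ * (y : D) * a)) * a⁻¹ := by rw [h1]
        _ = a * u * a⁻¹ * y := by group
    -- powers and commutators
    obtain ⟨M, hMQ, hMne, hMpow, hMcom⟩ := exists_maximal_basic Q hQr hne
    let S : Set D := {d | ∃ x ∈ Q, d = x ^ r} ∪ {d | ∃ x ∈ Q, ∃ y ∈ Q, d = ⁅x, y⁆}
    have hHM : Subgroup.closure S ≤ M := (Subgroup.closure_le M).mpr (by
      rintro d (⟨x, hx, rfl⟩ | ⟨x, hx, y, hy, rfl⟩)
      · exact hMpow x hx
      · exact hMcom x hx y hy)
    have hHc : ∀ d ∈ Subgroup.closure S, a * d = d * a := by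
      refine hsmall _ (hHM.trans hMQ) (fun h => hMne (le_antisymm hMQ (h ▸ hHM))) ?_
      intro d hd
      have hle : Subgroup.closure S ≤ (Subgroup.closure S).comap (MulAut.conj a).toMonoidHom := by
        refine (Subgroup.closure_le _).mpr ?_
        rintro d (⟨x, hx, rfl⟩ | ⟨x, hx, y, hy, rfl⟩)
        · exact Subgroup.subset_closure (Or.inl ⟨_, hQa x hx, map_pow (MulAut.conj a).toMonoidHom x r⟩)
        · exact Subgroup.subset_closure (Or.inr ⟨_, hQa x hx, _, hQa y hy,
            map_commutatorElement (MulAut.conj a).toMonoidHom x y⟩)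
      exact hle hd
    have hpowZ : ∀ x : Q, x ^ r ∈ Subgroup.center Q := fun x =>
      (hcentre _).mpr ((hCmem _).mpr ⟨(x ^ r).2,
        hHc _ (Subgroup.subset_closure (Or.inl ⟨x, x.2, rfl⟩))⟩)
    have hclass : ∀ x y : Q, ⁅x, y⁆ ∈ Subgroup.center Q := fun x y =>
      (hcentre _).mpr ((hCmem _).mpr ⟨(⁅x, y⁆ : Q).2,
        hHc _ (Subgroup.subset_closure (Or.inr ⟨x, x.2, y, y.2, rfl⟩))⟩)
    -- the pairing
    have hmulr : ∀ x y y' : Q, ⁅x, y * y'⁆ = ⁅x, y⁆ * ⁅x, y'⁆ := fun x y y' => by
      have hz := Subgroup.mem_center_iff.mp (hclass x y')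
      calc ⁅x, y * y'⁆ = ⁅x, y⁆ * (y * ⁅x, y'⁆) * y⁻¹ := by simp only [commutatorElement_def]; group
        _ = ⁅x, y⁆ * (⁅x, y'⁆ * y) * y⁻¹ := by rw [hz y]
        _ = ⁅x, y⁆ * ⁅x, y'⁆ := by group
    have hmull : ∀ x x' y : Q, ⁅x * x', y⁆ = ⁅x, y⁆ * ⁅x', y⁆ := fun x x' y => by
      rw [← commutatorElement_inv y (x * x'), hmulr, mul_inv_rev, commutatorElement_inv,
        commutatorElement_inv, Subgroup.mem_center_iff.mp (hclass x y)]
    letI : CommGroup (Subgroup.center Q) :=
      { (Subgroup.center Q).toGroup with mul_comm := fun x y => Subtype.ext (Subgroup.mem_center_iff.mp y.2 x) }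
    let T : Subgroup (Subgroup.center Q) := (powMonoidHom r : Subgroup.center Q →* Subgroup.center Q).ker
    have hZne : Subgroup.center Q ≠ ⊥ := by
      haveI : Nontrivial Q := (Subgroup.nontrivial_iff_ne_bot Q).mpr hne
      haveI := hQr.center_nontrivial
      exact (Subgroup.nontrivial_iff_ne_bot _).mp inferInstance
    haveI : IsCyclic (Subgroup.center Q) := by
      let i : Subgroup.center Q →* Subgroup.centralizer ({a} : Set D) :=
        { toFun := fun z => ⟨((z : Q) : D), ((hcentre _).mp z.2).2⟩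
          map_one' := rfl
          map_mul' := fun _ _ => rfl }
      exact isCyclic_of_injective i fun z z' h =>
        Subtype.ext (Subtype.ext (congrArg Subtype.val h :))
    have hT : Nat.card T = r := by
      show Nat.card (powMonoidHom r : Subgroup.center Q →* Subgroup.center Q).ker = r
      rw [IsCyclic.card_powMonoidHom_ker]
      obtain ⟨k, hk⟩ := IsPGroup.iff_card.mp (hQr.to_subgroup (Subgroup.center Q))
      refine Nat.gcd_eq_right ?_
      rw [hk]
      refine dvd_pow_self r fun h => hZne (Subgroup.eq_bot_of_card_eq _ ?_)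
      rw [hk, h, pow_zero]
    have hTmem : ∀ x y : Q, (⟨⁅x, y⁆, hclass x y⟩ : Subgroup.center Q) ∈ T := by
      intro x y
      refine MonoidHom.mem_ker.mpr (Subtype.ext ?_)
      show ⁅x, y⁆ ^ r = 1
      have hpow : ∀ k : ℕ, ⁅x ^ k, y⁆ = ⁅x, y⁆ ^ k := fun k => by
        induction k with
        | zero => simp
        | succ k ih => rw [pow_succ, hmull, ih, pow_succ]
      rw [← hpow, commutatorElement_eq_one_iff_mul_comm]
      exact (Subgroup.mem_center_iff.mp (hpowZ x) y).symm
    let pr : Q →* Q →* T :=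
      { toFun := fun x =>
          { toFun := fun y => ⟨⟨⁅x, y⁆, hclass x y⟩, hTmem x y⟩
            map_one' := Subtype.ext (Subtype.ext (commutatorElement_one_right x))
            map_mul' := fun y y' => Subtype.ext (Subtype.ext (hmulr x y y')) }
        map_one' := MonoidHom.ext fun y => Subtype.ext (Subtype.ext (commutatorElement_one_left y))
        map_mul' := fun x x' => MonoidHom.ext fun y => Subtype.ext (Subtype.ext (hmull x x' y)) }
    obtain ⟨m, hm⟩ := Cfsg.Agent.OddFT.alt_radical hrP hT pr fun x =>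
      Subtype.ext (Subtype.ext (commutatorElement_self x))
    have hker : pr.ker = Subgroup.center Q := by
      ext x
      rw [MonoidHom.mem_ker, Subgroup.mem_center_iff]
      constructor
      · intro h y
        exact (commutatorElement_eq_one_iff_mul_comm.mp
          (congrArg (fun t : T => ((t : Subgroup.center Q) : Q)) (DFunLike.congr_fun h y))).symm
      · intro h
        refine MonoidHom.ext fun y => Subtype.ext (Subtype.ext ?_)
        exact commutatorElement_eq_one_iff_mul_comm.mpr (h y).symm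
    rw [hker] at hm
    -- the two bounds
    have hle := index_le_sq hE a hirr Q (fun z hz => ((hCmem _).mp ((hcentre z).mp hz)).2) hclass
    have hcongr := card_modEq_centralizer ha hQa hCmem
    have hcC : Nat.card C = Nat.card (Subgroup.center Q) :=
      Nat.card_congr
        { toFun := fun c => ⟨⟨c.1, c.2.1⟩, (hcentre _).mpr c.2⟩
          invFun := fun z => ⟨((z : Q) : D), (hcentre _).mp z.2⟩
          left_inv := fun c => rfl
          right_inv := fun z => rfl }
    rw [hcC, ← (Subgroup.center Q).card_mul_index, hm, pow_mul'] at hcongr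
    rw [hm, pow_mul'] at hle
    have hm0 : m ≠ 0 := by
      rintro rfl
      refine hnc fun q hq => ((hCmem q).mp ((hcentre ⟨q, hq⟩).mp ?_)).2
      rw [Subgroup.index_eq_one.mp (show (Subgroup.center Q).index = 1 by simpa using hm)]
      exact Subgroup.mem_top _
    set t := r ^ m with ht
    have ht2 : 2 ≤ t := hrP.two_le.trans (Nat.le_self_pow hm0 r)
    have hcopZ : (Nat.card (Subgroup.center Q)).Coprime s := by
      obtain ⟨k, hk⟩ := IsPGroup.iff_card.mp (hQr.to_subgroup (Subgroup.center Q))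
      rw [hk]
      exact ((Nat.coprime_primes hrP hsP).mpr hrs).pow_left k
    have hdvd : s ∣ (t - 1) * (t + 1) := by
      have h1 := (Nat.modEq_iff_dvd' (Nat.le_mul_of_pos_right _ (by positivity))).mp hcongr.symm
      have e : Nat.card (Subgroup.center Q) * t ^ 2 - Nat.card (Subgroup.center Q) =
          Nat.card (Subgroup.center Q) * ((t - 1) * (t + 1)) := by
        rw [show (t - 1) * (t + 1) = t ^ 2 - 1 by rw [mul_comm, ← Nat.sq_sub_sq, one_pow],
          Nat.mul_sub, mul_one]
      rw [e] at h1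
      exact hcopZ.symm.dvd_of_dvd_mul_left h1
    have htf : t ≤ f := Nat.mul_self_le_mul_self_iff.mp (by rwa [← sq] )
    rcases hsP.dvd_mul.mp hdvd with h | h
    · have := Nat.le_of_dvd (by omega) h
      omega
    · have := Nat.le_of_dvd (by omega) h
      omega

end Cfsg.Agent.Perm.Kantor
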