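import Cfsg.Agent.Lib.Perm.Kantor.Centralize
import Cfsg.Agent.Lib.Lie.HuppertRegular
import Cfsg.Agent.Lib.Solv.Cores
import Cfsg.Agent.S2904
import Mathlib

/-!
Solvable linear groups of odd order which are transitive on the pairs `{v, -v}` of non-zero vectors are
semilinear.
-/

set_option autoImplicit false
set_option linter.unusedSectionVars false
set_option linter.style.haveILetI false

namespace Cfsg.Agent.Perm.Kantor

open Cfsg.Agent.Lie.OddSmall

universe u

variable {p : ℕ} [Fact p.Prime] {V : Type u} [AddCommGroup V] [Module (ZMod p) V] [Finite V]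

instance finite_linearEquiv : Finite (V ≃ₗ[ZMod p] V) :=
  Finite.of_injective (fun e => (e : V → V)) DFunLike.coe_injective

/-- The number of vectors is `3` modulo `4`, and the orbit of a vector has half as many elements as there are
non-zero vectors. -/
theorem orbit_card (hp2 : p ≠ 2) (H : Subgroup (V ≃ₗ[ZMod p] V)) (hodd : Odd (Nat.card H))
    (hpair : ∀ v w : V, v ≠ 0 → w ≠ 0 → ∃ h : H, h • v = w ∨ h • v = -w) {v : V} (hv : v ≠ 0) :
    ∃ k, k ∣ Nat.card H ∧ Odd k ∧ Nat.card V = 2 * k + 1 := by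
  classical
  refine ⟨(MulAction.orbit H v).ncard, ?_, ?_, ?_⟩
  · rw [← MulAction.index_stabilizer H v]; exact (MulAction.stabilizer H v).index_dvd_card
  · rw [← MulAction.index_stabilizer H v]; exact hodd.of_dvd_nat (MulAction.stabilizer H v).index_dvd_card
  have h2 : ∀ x : V, x = -x → x = 0 := fun x hx => by
    have h : (2 : ZMod p) • x = 0 := by
      rw [two_smul]; nth_rewrite 2 [hx]; exact add_neg_cancel x
    refine (smul_eq_zero.mp h).resolve_left fun h0 => hp2 ?_
    have : ((2 : ℕ) : ZMod p) = 0 := by exact_mod_cast h0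
    exact ((Nat.prime_dvd_prime_iff_eq Fact.out Nat.prime_two).mp
      ((ZMod.natCast_eq_zero_iff 2 p).mp this))
  set O := MulAction.orbit H v with hO
  have hOne : ∀ x ∈ O, x ≠ 0 := by
    rintro x ⟨h, rfl⟩ h0
    exact hv ((smul_eq_zero_iff_eq h).mp h0)
  have hdis : Disjoint O (Neg.neg '' O) := by
    rw [Set.disjoint_left]
    rintro x hx ⟨y, hy, hxy⟩
    obtain ⟨g, hg⟩ : ∃ g : H, g • x = y := by
      obtain ⟨h1, rfl⟩ := hx
      obtain ⟨h2, rfl⟩ := hy
      exact ⟨h2 * h1⁻¹, by rw [← mul_smul, inv_mul_cancel_right]⟩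
    have hgx : g • x = -x := by rw [hg, ← hxy, neg_neg]
    have hg2 : g ^ 2 • x = x := by rw [pow_two, mul_smul, hgx, smul_neg, hgx, neg_neg]
    obtain ⟨j, hj⟩ := hodd.of_dvd_nat (orderOf_dvd_natCard g)
    have h1 : g ^ orderOf g • x = -x := by
      rw [hj, pow_succ', mul_smul, pow_mul, smul_pow_fixed hg2, hgx]
    rw [pow_orderOf_eq_one, one_smul] at h1
    exact hOne x hx (h2 x h1)
  have hU : O ∪ Neg.neg '' O = ({0} : Set V)ᶜ := by
    ext x
    constructor
    · rintro (h | ⟨y, hy, rfl⟩)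
      · exact hOne x h
      · exact fun h => hOne y hy (neg_eq_zero.mp h)
    · intro hx
      obtain ⟨h, h' | h'⟩ := hpair v x hv hx
      · exact Or.inl ⟨h, h'⟩
      · exact Or.inr ⟨-x, ⟨h, h'⟩, neg_neg x⟩
  have hc := Set.ncard_union_eq hdis
  rw [hU, Set.ncard_image_of_injective _ neg_injective] at hc
  have h1 := Set.ncard_add_ncard_compl ({0} : Set V)
  rw [Set.ncard_singleton, hc] at h1
  omega

/-- The semilinear identification. -/
theorem semilinear {f : ℕ} (hf : 0 < f) (hE : Nat.card V = p ^ f) (hp2 : p ≠ 2)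
    (H : Subgroup (V ≃ₗ[ZMod p] V)) (hodd : Odd (Nat.card H)) (hsol : Group.IsSolvable H)
    (hpair : ∀ v w : V, v ≠ 0 → w ≠ 0 → ∃ h : H, h • v = w ∨ h • v = -w) :
    p ^ f % 4 = 3 ∧ ∃ (F : Type) (_ : Field F) (_ : Fintype F) (e : V ≃+ F),
      ∀ h : H, ∃ (a : F) (σ : F ≃+* F), ∀ v : V, e ((h : V ≃ₗ[ZMod p] V) v) = a * σ (e v) := by
  classical
  have hpP : p.Prime := Fact.out
  haveI : Nontrivial V := Finite.one_lt_card_iff_nontrivial.mp (by
    rw [hE]; exact Nat.one_lt_pow hf.ne' hpP.one_lt)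
  obtain ⟨v, hv⟩ := exists_ne (0 : V)
  obtain ⟨k, hkd, hko, hk⟩ := orbit_card hp2 H hodd hpair hv
  rw [hE] at hk
  have hmod : p ^ f % 4 = 3 := by
    obtain ⟨j, rfl⟩ := hko
    omega
  refine ⟨hmod, ?_⟩
  have hfodd : Odd f := by
    by_contra h
    obtain ⟨j, rfl⟩ := Nat.not_odd_iff_even.mp h
    rw [← two_mul, mul_comm, pow_mul] at hmod
    have h4 : ∀ x : ℕ, x ^ 2 % 4 ≠ 3 := fun x => by
      rw [Nat.pow_mod]
      have : x % 4 < 4 := Nat.mod_lt _ (by norm_num)
      interval_cases x % 4 <;> norm_num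
    exact h4 _ hmod
  rcases (show f = 1 ∨ 2 ≤ f by omega) with rfl | hf2
  · -- degree one
    refine Lie.HuppertRegular.semilinear_of_irreducible H ⊥
      ⟨⟨fun x y => Subsingleton.elim _ _⟩⟩ fun W _ => ?_
    rcases AddSubgroup.eq_bot_or_eq_top_of_prime_card (hp := Fact.mk (by rwa [hE, pow_one] : (Nat.card V).Prime))
      W.toAddSubgroup with h | h
    · exact Or.inl (Submodule.toAddSubgroup_injective (h.trans (Submodule.bot_toAddSubgroup).symm))
    · exact Or.inr (Submodule.toAddSubgroup_injective (h.trans (Submodule.top_toAddSubgroup).symm))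
  have hf3 : 3 ≤ f := by
    obtain ⟨j, rfl⟩ := hfodd
    omega
  obtain ⟨s, hsP, hsd, hs⟩ := Cfsg.Agent.S2904.result p f hpP.one_lt (by omega) (fun h => hp2 h.1)
    (fun h => by omega)
  haveI := Fact.mk hsP
  have hpow1 : ∀ n, p - 1 ∣ p ^ n - 1 := fun n => by simpa using Nat.sub_dvd_pow_sub_pow p 1 n
  have hpodd : Odd p := hpP.odd_of_ne_two hp2
  have hs2 : s ≠ 2 := fun h => hs 1 one_pos (by omega) (by
    rw [h, pow_one]
    obtain ⟨j, rfl⟩ := hpodd
    omega)
  have hsp : s ≠ p := fun h => by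
    have h1 : p ∣ p ^ f := dvd_pow_self p hf.ne'
    rw [h] at hsd
    have h2 := Nat.dvd_sub h1 hsd
    rw [Nat.sub_sub_self (Nat.one_le_pow _ _ hpP.pos)] at h2
    exact hpP.one_lt.ne' (Nat.dvd_one.mp h2)
  have hbig : f + 1 < s := by
    haveI : NeZero (p : ZMod s) := ⟨fun h => hsp
      (((Nat.prime_dvd_prime_iff_eq hsP hpP).mp ((ZMod.natCast_eq_zero_iff p s).mp h)))⟩
    have hcast : ∀ n, (p : ZMod s) ^ n = 1 ↔ s ∣ p ^ n - 1 := fun n => by
      rw [← Nat.cast_pow, ← sub_eq_zero, ← Nat.cast_one, ← Nat.cast_sub (Nat.one_le_pow _ _ hpP.pos),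
        ZMod.natCast_eq_zero_iff]
    have hord : orderOf (p : ZMod s) = f := by
      rw [orderOf_eq_iff hf]
      exact ⟨(hcast f).mpr hsd, fun m hm hm0 h => hs m hm0 hm ((hcast m).mp h)⟩
    have h1 : f ∣ s - 1 := hord ▸ ZMod.orderOf_dvd_card_sub_one (NeZero.ne _)
    obtain ⟨c, hc⟩ := h1
    obtain ⟨j, hj⟩ := hsP.odd_of_ne_two hs2
    obtain ⟨i, hi⟩ := hfodd
    rcases (show c = 0 ∨ c = 1 ∨ 2 ≤ c by omega) with rfl | rfl | hc2
    · have := hsP.two_le; simp at hc; omega
    · simp at hc; omega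
    · have : f * 2 ≤ f * c := Nat.mul_le_mul_left f hc2
      omega
  -- an element of order `s`
  have hsH : s ∣ Nat.card H := by
    have h1 : s ∣ 2 * k := by
      rw [show 2 * k = p ^ f - 1 by omega]; exact hsd
    exact (((Nat.coprime_primes hsP Nat.prime_two).mpr hs2).dvd_of_dvd_mul_left h1).trans hkd
  obtain ⟨a, ha⟩ := exists_prime_orderOf_dvd_card' s hsH
  have hpE : ∀ x : V, p • x = 0 := fun x => by
    rw [← Nat.cast_smul_eq_nsmul (ZMod p), ZMod.natCast_self, zero_smul]
  obtain ⟨-, hirr⟩ := irreducible_of_order hE hsp hs a ha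
  obtain ⟨hcyc, -⟩ := centralizer_irreducible a hirr
  -- the Fitting subgroup is centralized
  have hFC : Cfsg.fittingSubgroup H ≤ Subgroup.centralizer ({a} : Set H) := by
    rw [Solv.fitting_eq_iSup_pCore]
    refine iSup_le fun q => ?_
    haveI := Fact.mk q.2
    haveI := Solv.pCore_normal (G := H) (q : ℕ)
    have hP := Solv.pCore_isPGroup (G := H) (q : ℕ)
    set P := Cfsg.pCore (q : ℕ) H
    intro x hx
    rw [Subgroup.mem_centralizer_singleton_iff]
    by_cases hqp : (q : ℕ) = p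
    · let U : AddSubgroup V :=
        { carrier := {y | ∀ d ∈ P, d • y = y}
          add_mem' := fun {y z} hy hz d hd => by rw [smul_add, hy d hd, hz d hd]
          zero_mem' := fun d _ => smul_zero d
          neg_mem' := fun {y} hy d hd => by rw [smul_neg, hy d hd] }
      rcases hirr U (fun u hu d hd => by
        have h2 := hu _ (Subgroup.Normal.conj_mem ‹P.Normal› d hd a⁻¹)
        rw [inv_inv, mul_smul, mul_smul, inv_smul_eq_iff] at h2
        exact h2) with hU | hU
      · exfalso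
        haveI : Fact ((q : ℕ)).Prime := Fact.mk q.2
        have h1 := card_modEq (E := V) P hP ⊤ (fun _ _ _ _ => trivial) fun u _ hu =>
          AddSubgroup.mem_bot.mp (hU ▸ hu : u ∈ (⊥ : AddSubgroup V))
        rw [AddSubgroup.card_top, hE, hqp] at h1
        have h0 : p ^ f % p = 0 := Nat.mod_eq_zero_of_dvd (dvd_pow_self p hf.ne') |> id
        rw [Nat.ModEq, h0, Nat.mod_eq_of_lt hpP.one_lt] at h1
        exact zero_ne_one h1
      · have h1 : x = 1 := eq_of_smul_eq_smul (α := V) fun e => by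
          rw [one_smul]; exact (hU ▸ AddSubgroup.mem_top e : e ∈ U) x hx
        rw [h1, one_mul, mul_one]
    by_cases hqs : (q : ℕ) = s
    · let S := P ⊔ Subgroup.zpowers a
      have hS : IsPGroup s S := IsPGroup.to_sup_of_normal_left (hqs ▸ hP)
        (IsPGroup.of_card (n := 1) (by rw [Nat.card_zpowers, ha, pow_one]))
      have haS : a ∈ S := le_sup_right (a := P) (Subgroup.mem_zpowers a)
      have hxS : x ∈ S := le_sup_left (b := Subgroup.zpowers a) hx
      haveI : Nontrivial S := ⟨⟨⟨a, haS⟩, 1, fun h => by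
        have h1 : a = 1 := congrArg Subtype.val h
        rw [h1, orderOf_one] at ha
        exact hsP.one_lt.ne ha⟩⟩
      haveI := hS.center_nontrivial
      obtain ⟨m, hm⟩ := IsPGroup.iff_card.mp (hS.to_subgroup (Subgroup.center S))
      obtain ⟨z, hz⟩ := exists_prime_orderOf_dvd_card' s (G := Subgroup.center S) (by
        rw [hm]
        refine dvd_pow_self s fun h => ?_
        have := Finite.one_lt_card (α := Subgroup.center S)
        rw [hm, h, pow_zero] at this
        exact lt_irrefl 1 this)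
      have hz' : orderOf ((z : S) : H) = s := by rw [Subgroup.orderOf_coe, Subgroup.orderOf_coe, hz]
      obtain ⟨-, hirrz⟩ := irreducible_of_order hE hsp hs _ hz'
      obtain ⟨hcz, -⟩ := centralizer_irreducible _ hirrz
      haveI := hcz
      have hmem : ∀ y ∈ S, y ∈ Subgroup.centralizer ({((z : S) : H)} : Set H) := fun y hy => by
        rw [Subgroup.mem_centralizer_singleton_iff]
        exact congrArg Subtype.val (Subgroup.mem_center_iff.mp z.2 ⟨y, hy⟩)
      exact congrArg Subtype.val ((IsCyclic.isMulCommutative (α := Subgroup.centralizer ({((z : S) : H)} : Set H))).is_comm.comm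
        ⟨x, hmem x hxS⟩ ⟨a, hmem a haS⟩)
    exact (centralizes hE hsp hs hbig hpE a ha hqp hqs _ P le_rfl hP
      (fun y hy => Subgroup.Normal.conj_mem ‹P.Normal› y hy a) x hx).symm
  have haF : a ∈ Cfsg.fittingSubgroup H := Solv.centralizer_fitting_le hsol
    (Subgroup.mem_centralizer_iff.mpr fun y hy => Subgroup.mem_centralizer_singleton_iff.mp (hFC hy))
  haveI := Solv.fittingSubgroup_normal (G := H)
  haveI := hcyc
  haveI : IsCyclic (Cfsg.fittingSubgroup H) := isCyclic_of_injective (Subgroup.inclusion hFC)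
    (Subgroup.inclusion_injective hFC)
  haveI hAn : (Subgroup.zpowers a).Normal := ⟨fun x hx h => by
    obtain ⟨i, rfl⟩ := hx
    obtain ⟨m, hm⟩ := MonoidHom.map_cyclic
      ((MulAut.conjNormal h : MulAut (Cfsg.fittingSubgroup H)).toMonoidHom)
    refine ⟨i * m, ?_⟩
    have h1 : h * (a ^ i) * h⁻¹ = (a ^ i) ^ m :=
      congrArg Subtype.val (hm ⟨a ^ i, zpow_mem haF i⟩)
    show a ^ (i * m) = h * a ^ i * h⁻¹
    rw [h1, zpow_mul]⟩
  refine Lie.HuppertRegular.semilinear_of_irreducible H (Subgroup.zpowers a) inferInstance fun W hW => ?_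
  rcases hirr W.toAddSubgroup (fun u hu => hW a (Subgroup.mem_zpowers a) u hu) with h | h
  · exact Or.inl (Submodule.toAddSubgroup_injective (h.trans (Submodule.bot_toAddSubgroup).symm))
  · exact Or.inr (Submodule.toAddSubgroup_injective (h.trans (Submodule.top_toAddSubgroup).symm))

end Cfsg.Agent.Perm.Kantor
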