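import Cfsg.Agent.Lib.Perm.Kantor.Linear
import Cfsg.Agent.Lib.Perm.Primitive
import Cfsg.Agent.Lib.Solv.Basic
import Cfsg.Prelude.Def_Perm
import Mathlib

/-!
Kantor's theorem on groups which are 2-homogeneous and not 2-transitive, for solvable groups of odd order.
-/

set_option autoImplicit false
set_option linter.unusedSectionVars false
set_option linter.style.haveILetI false

namespace Cfsg.Agent.Perm.Kantor

open MulAction
open scoped Pointwise

universe u

variable {α : Type u} [Fintype α] [DecidableEq α] (G : Subgroup (Equiv.Perm α))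

/-- The pair form of 2-homogeneity. -/
theorem pairs (h2 : IsPretransitive G (Set.powersetCard α 2)) {a b c d : α} (hab : a ≠ b) (hcd : c ≠ d) :
    ∃ g : G, (g • a = c ∧ g • b = d) ∨ (g • a = d ∧ g • b = c) := by
  let s : Set.powersetCard α 2 := ⟨{a, b}, Finset.card_pair hab⟩
  let t : Set.powersetCard α 2 := ⟨{c, d}, Finset.card_pair hcd⟩
  obtain ⟨g, hg⟩ := h2.exists_smul_eq s t
  have h : (({a, b} : Finset α).image fun x => g • x) = {c, d} := congrArg Subtype.val hg
  rw [Finset.image_insert, Finset.image_singleton] at h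
  refine ⟨g, ?_⟩
  have ha : g • a = c ∨ g • a = d := by
    have := h ▸ Finset.mem_insert_self (g • a) {g • b}
    simpa using this
  have hb : g • b = c ∨ g • b = d := by
    have := h ▸ Finset.mem_insert_of_mem (b := g • a) (Finset.mem_singleton_self (g • b))
    simpa using this
  have hne : g • a ≠ g • b := fun e => hab (MulAction.injective g e)
  rcases ha with ha | ha <;> rcases hb with hb | hb
  · exact absurd (ha.trans hb.symm) hne
  · exact Or.inl ⟨ha, hb⟩
  · exact Or.inr ⟨ha, hb⟩
  · exact absurd (ha.trans hb.symm) hne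

/-- Two-transitivity from swapping one pair, or from transitivity of a point stabilizer. -/
theorem twoTransitive (h : ∀ a b c d : α, a ≠ b → c ≠ d → ∃ g : G, g • a = c ∧ g • b = d) :
    IsMultiplyPretransitive G α 2 :=
  is_two_pretransitive_iff.mpr fun hab hcd => h _ _ _ _ hab hcd

/-- An action by additive automorphisms is linear over the prime field. -/
def toLinear {p : ℕ} {K W : Type*} [Group K] [AddCommGroup W] [Module (ZMod p) W] (c : K → (W ≃+ W))
    (h1 : ∀ x, c 1 x = x) (hmul : ∀ a b x, c (a * b) x = c a (c b x)) : K →* (W ≃ₗ[ZMod p] W) where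
  toFun k := (c k).toLinearEquiv (ZMod.map_smul (c k).toAddMonoidHom)
  map_one' := LinearEquiv.ext h1
  map_mul' a b := LinearEquiv.ext (hmul a b)

/-- Kantor's theorem. -/
theorem main (hne : G ≠ ⊥) (h2 : IsPretransitive G (Set.powersetCard α 2))
    (hn2 : ¬ IsMultiplyPretransitive G α 2) (hFT : Odd (Nat.card G) → Group.IsSolvable G) :
    Odd (Nat.card G) ∧ ∃ (p f : ℕ) (_ : Fact p.Prime), p ≠ 2 ∧ Fintype.card α = p ^ f ∧ p ^ f % 4 = 3 ∧
      ∃ e : α ≃ GaloisField p f,
        (∀ g : G, e.symm.trans (((g : Equiv.Perm α)).trans e) ∈ Cfsg.semiaffineGroup (GaloisField p f)) ∧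
        ∀ b : GaloisField p f, ∃ g : G, ∀ x : α, e ((g : Equiv.Perm α) x) = e x + b := by
  classical
  -- odd order
  have hodd : Odd (Nat.card G) := by
    by_contra hev
    rw [Nat.not_odd_iff_even, even_iff_two_dvd] at hev
    obtain ⟨t, ht⟩ := exists_prime_orderOf_dvd_card' 2 hev
    have ht2 : t * t = 1 := by rw [← pow_two, ← ht]; exact pow_orderOf_eq_one t
    obtain ⟨a, ha⟩ : ∃ a : α, t • a ≠ a := by
      by_contra hall
      push Not at hall
      have : t = 1 := Subtype.ext (Equiv.ext hall)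
      rw [this, orderOf_one] at ht
      norm_num at ht
    have hswap : t • t • a = a := by rw [← mul_smul, ht2, one_smul]
    refine hn2 (twoTransitive G fun x y c d hxy hcd => ?_)
    obtain ⟨g, hg⟩ := pairs G h2 (Ne.symm ha) hxy
    obtain ⟨k, hk⟩ := pairs G h2 hxy hcd
    have hsw : ∃ w : G, w • x = y ∧ w • y = x := by
      refine ⟨g * t * g⁻¹, ?_⟩
      rcases hg with ⟨h1, h1'⟩ | ⟨h1, h1'⟩ <;>
        refine ⟨?_, ?_⟩ <;>
        first
          | rw [← h1, mul_smul, mul_smul, inv_smul_smul, h1']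
          | rw [← h1', mul_smul, mul_smul, inv_smul_smul, hswap, h1]
    obtain ⟨w, hw, hw'⟩ := hsw
    rcases hk with ⟨h1, h1'⟩ | ⟨h1, h1'⟩
    · exact ⟨k, h1, h1'⟩
    · exact ⟨k * w, by rw [mul_smul, hw, h1'], by rw [mul_smul, hw', h1]⟩
  refine ⟨hodd, ?_⟩
  -- transitive and primitive
  have hG1 : ∃ g : G, g ≠ 1 := by
    by_contra hall
    push Not at hall
    exact hne (eq_bot_iff.mpr fun g hg => Subgroup.mem_bot.mpr (congrArg Subtype.val (hall ⟨g, hg⟩)))
  have hthree : ∀ a b : α, a ≠ b → ∃ c, c ≠ a ∧ c ≠ b := by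
    intro a b hab
    by_contra hall
    push Not at hall
    obtain ⟨g, hg⟩ := hG1
    obtain ⟨x, hx⟩ : ∃ x : α, g • x ≠ x := by
      by_contra h
      push Not at h
      exact hg (Subtype.ext (Equiv.ext h))
    have hgg : g ^ 2 • x = x := by
      by_contra h
      have h' : g • g • x ≠ x := by rwa [pow_two, mul_smul] at h
      have h'' : g • g • x ≠ g • x := fun e => hx (MulAction.injective g e)
      by_cases hxa : x = a
      · subst hxa
        exact h' ((hall _ h').trans (hall _ hx).symm |> fun e => absurd e h'')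
      · have hxb : x = b := hall x hxa
        subst hxb
        have h1 : g • x = a := by by_contra h1; exact hx (hall _ h1)
        by_cases h3 : g • g • x = a
        · exact h'' (h3.trans h1.symm)
        · exact h' (hall _ h3)
    obtain ⟨j, hj⟩ := hodd.of_dvd_nat (orderOf_dvd_natCard g)
    have h1 : g ^ orderOf g • x = g • x := by
      rw [hj, pow_succ', mul_smul, pow_mul]
      congr 1
      clear hj
      induction j with
      | zero => simp
      | succ j ih => rw [pow_succ', mul_smul, ih, hgg]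
    rw [pow_orderOf_eq_one, one_smul] at h1
    exact hx h1.symm
  haveI htr : IsPretransitive G α := ⟨fun a b => by
    by_cases hab : a = b
    · exact ⟨1, by rw [hab, one_smul]⟩
    obtain ⟨c, hca, hcb⟩ := hthree a b hab
    obtain ⟨g, ⟨h1, -⟩ | ⟨h1, h1'⟩⟩ := pairs G h2 (Ne.symm hca) (Ne.symm hcb)
    · exact ⟨g, h1⟩
    · exact ⟨g * g, by rw [mul_smul, h1, h1']⟩⟩
  haveI : IsPreprimitive G α := .mk fun {B} hB => by
    by_contra hB'
    unfold IsTrivialBlock at hB'
    push Not at hB'
    obtain ⟨hsub, huniv⟩ := hB'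
    obtain ⟨c, hc⟩ := (Set.ne_univ_iff_exists_notMem B).mp huniv
    obtain ⟨a, haB, b, hbB, hab⟩ := hsub
    have hac : a ≠ c := fun e => hc (e ▸ haB)
    obtain ⟨g, hg⟩ := pairs G h2 hab hac
    have hsub2 : ({a, c} : Set α) ⊆ (g • B : Set α) := by
      intro x hx
      rcases hx with hx | hx
      · subst hx
        rcases hg with ⟨h1, -⟩ | ⟨-, h1⟩
        · exact ⟨x, haB, h1⟩
        · exact ⟨b, hbB, h1⟩
      · rw [Set.mem_singleton_iff] at hx
        subst hx
        rcases hg with ⟨-, h1⟩ | ⟨h1, -⟩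
        · exact ⟨b, hbB, h1⟩
        · exact ⟨a, haB, h1⟩
    rcases hB.smul_eq_or_disjoint g with h | h
    · exact hc (h ▸ hsub2 (Set.mem_insert_of_mem _ rfl))
    · exact Set.disjoint_left.mp h (hsub2 (Set.mem_insert _ _)) haB
  -- the regular normal subgroup
  have hsol := hFT hodd
  haveI : Nontrivial G := ⟨⟨hG1.choose, 1, hG1.choose_spec⟩⟩
  obtain ⟨N, hNn, hNb, -, hmin⟩ := Solv.exists_minimal_normal_le (⊤ : Subgroup G) top_ne_bot
  haveI := hNn
  haveI := hsol
  obtain ⟨hNc, p, hp, hpow, hNp⟩ := Solv.minimal_normal_elementaryAbelian N inferInstance hNb hmin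
  haveI := Fact.mk hp
  haveI hNtr : IsPretransitive N α := Perm.normal_isPretransitive N hNb
  have hreg := Perm.stabilizer_eq_bot_of_isMulCommutative (Ω := α) (M := N) hNc
  obtain ⟨f, hf⟩ := IsPGroup.iff_card.mp hNp
  have hf0 : f ≠ 0 := fun h => hNb (Subgroup.eq_bot_of_card_eq _ (by rw [hf, h, pow_zero]))
  obtain ⟨o⟩ : Nonempty α := by
    by_contra h
    rw [not_nonempty_iff] at h
    obtain ⟨g, hg⟩ := hG1
    exact hg (Subtype.ext (Equiv.ext fun x => (IsEmpty.false x).elim))
  have hcardα : Nat.card α = p ^ f := by rw [Perm.card_eq_of_regular o (hreg o), hf]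
  have hbij : Function.Bijective fun n : N => (n : G) • o := by
    refine ⟨fun n m h => ?_, fun x => ?_⟩
    · have h1 : m⁻¹ * n ∈ stabilizer N o := by
        show (m⁻¹ * n) • o = o
        rw [mul_smul, inv_smul_eq_iff]
        exact h
      rw [hreg o, Subgroup.mem_bot, inv_mul_eq_one] at h1
      exact h1.symm
    · obtain ⟨n, hn⟩ := hNtr.exists_smul_eq o x
      exact ⟨n, hn⟩
  let eN : N ≃ α := Equiv.ofBijective _ hbij
  -- the vector space
  letI : CommGroup N := { (inferInstance : Group N) with mul_comm := hNc.is_comm.comm }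
  let V := Additive N
  haveI : Module (ZMod p) V := AddCommGroup.zmodModule fun x : V => by
    apply Additive.toMul.injective
    rw [toMul_nsmul, toMul_zero]
    exact Subtype.ext (hpow _ x.toMul.2)
  let conjA : stabilizer G o → (V ≃+ V) := fun h => MulEquiv.toAdditive (MulAut.conjNormal (h : G))
  let φ := toLinear (p := p) (W := V) conjA
    (fun x => by
      show Additive.ofMul (MulAut.conjNormal ((1 : stabilizer G o) : G) x.toMul) = x
      rw [OneMemClass.coe_one, map_one]
      rfl)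
    (fun h k x => by
      show Additive.ofMul (MulAut.conjNormal ((h * k : stabilizer G o) : G) x.toMul) =
        Additive.ofMul (MulAut.conjNormal (h : G) (MulAut.conjNormal (k : G) x.toMul))
      rw [Subgroup.coe_mul, map_mul]
      rfl)
  have hφ : ∀ (h : stabilizer G o) (n : N), (h : G) • (n : G) • o =
      ((Additive.toMul (φ h (Additive.ofMul n) : V) : N) : G) • o := by
    intro h n
    show (h : G) • (n : G) • o = ((MulAut.conjNormal (h : G) n : N) : G) • o
    rw [MulAut.conjNormal_apply]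
    rw [mul_smul, mul_smul, inv_smul_eq_iff.mpr h.2.symm]
  haveI : Finite V := Finite.of_equiv N Additive.ofMul
  have hV : Nat.card V = p ^ f := by rw [← Nat.card_congr Additive.ofMul, hf]
  have hpair : ∀ v w : V, v ≠ 0 → w ≠ 0 → ∃ h : φ.range, h • v = w ∨ h • v = -w := by
    intro v w hv hw
    have hne' : ∀ x : V, x ≠ 0 → (x.toMul : G) • o ≠ o := fun x hx h =>
      hx (Additive.toMul.injective (hbij.1 (h.trans (one_smul G o).symm)))
    obtain ⟨g, ⟨h1, h1'⟩ | ⟨h1, h1'⟩⟩ := pairs G h2 (Ne.symm (hne' v hv)) (Ne.symm (hne' w hw))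
    · refine ⟨⟨φ ⟨g, h1⟩, ⟨_, rfl⟩⟩, Or.inl ?_⟩
      show φ ⟨g, h1⟩ v = w
      apply Additive.toMul.injective
      apply hbij.1
      exact (hφ ⟨g, h1⟩ v.toMul).symm.trans h1'
    · have hst : ((w.toMul : G)⁻¹ * g) • o = o := by rw [mul_smul, h1, inv_smul_smul]
      refine ⟨⟨φ ⟨_, hst⟩, ⟨_, rfl⟩⟩, Or.inr ?_⟩
      show φ ⟨_, hst⟩ v = -w
      apply Additive.toMul.injective
      apply hbij.1
      refine (hφ ⟨_, hst⟩ v.toMul).symm.trans ?_
      show ((w.toMul : G)⁻¹ * g) • (v.toMul : G) • o = ((w.toMul : G)⁻¹) • o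
      rw [mul_smul, h1']
  have hoddH : Odd (Nat.card φ.range) :=
    hodd.of_dvd_nat ((Subgroup.card_range_dvd φ).trans (Subgroup.card_subgroup_dvd_card _))
  -- the degree is odd
  have hp2 : p ≠ 2 := by
    rintro rfl
    refine hn2 (twoTransitive G fun a b c d hab hcd => ?_)
    obtain ⟨g₁, hg₁⟩ := htr.exists_smul_eq a o
    obtain ⟨g₂, hg₂⟩ := htr.exists_smul_eq c o
    obtain ⟨v, hv⟩ := hbij.2 (g₁ • b)
    obtain ⟨w, hw⟩ := hbij.2 (g₂ • d)
    have hv0 : Additive.ofMul v ≠ (0 : V) := fun h => by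
      have : v = 1 := h
      subst this
      exact hab (MulAction.injective g₁ (hg₁.trans ((one_smul G o).symm.trans hv)))
    have hw0 : Additive.ofMul w ≠ (0 : V) := fun h => by
      have : w = 1 := h
      subst this
      exact hcd (MulAction.injective g₂ (hg₂.trans ((one_smul G o).symm.trans hw)))
    have hneg : ∀ x : V, -x = x := fun x => by
      have h : (2 : ℕ) • x = 0 := by
        rw [← Nat.cast_smul_eq_nsmul (ZMod 2), ZMod.natCast_self, zero_smul]
      rw [two_nsmul, add_eq_zero_iff_eq_neg] at h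
      exact h.symm
    obtain ⟨⟨_, k, rfl⟩, hk⟩ := hpair _ _ hv0 hw0
    have hk' : φ k (Additive.ofMul v) = Additive.ofMul w := hk.elim id fun h => h.trans (hneg _)
    refine ⟨g₂⁻¹ * k * g₁, ?_, ?_⟩
    · rw [mul_smul, mul_smul, hg₁, (k.2 : (k : G) • o = o), inv_smul_eq_iff, hg₂]
    · rw [mul_smul, mul_smul, inv_smul_eq_iff, ← hv, ← hw]
      exact (hφ k v).trans (by rw [hk']; rfl)
  obtain ⟨hmod, F, iF, iF', e', he'⟩ := semilinear (Nat.pos_of_ne_zero hf0) hV hp2 φ.range hoddH
    (Group.isSolvable_of_surjective φ.rangeRestrict_surjective) hpair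
  refine ⟨p, f, ⟨hp⟩, hp2, by rw [← Nat.card_eq_fintype_card, hcardα], hmod, ?_⟩
  haveI : Fintype (GaloisField p f) := Fintype.ofFinite _
  have hFc : Fintype.card F = Fintype.card (GaloisField p f) := by
    rw [← Nat.card_eq_fintype_card, ← Nat.card_eq_fintype_card, GaloisField.card p f hf0, ← hV,
      Nat.card_congr e'.toEquiv]
  let τ : F ≃+* GaloisField p f := FiniteField.ringEquivOfCardEq hFc
  let E : V ≃+ GaloisField p f := e'.trans τ.toAddEquiv
  let e : α ≃ GaloisField p f := (eN.symm.trans Additive.ofMul).trans E.toEquiv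
  have he : ∀ n : N, e ((n : G) • o) = E (Additive.ofMul n) := fun n => by
    show E (Additive.ofMul (eN.symm (eN n))) = _
    rw [Equiv.symm_apply_apply]
  refine ⟨e, fun g => ?_, fun b => ?_⟩
  · obtain ⟨n, hn⟩ := hbij.2 (g • o)
    have hst : ((n : G)⁻¹ * g) • o = o := by rw [mul_smul, inv_smul_eq_iff]; exact hn.symm
    obtain ⟨a, σ, hσ⟩ := he' ⟨φ ⟨_, hst⟩, ⟨_, rfl⟩⟩
    have ha : a ≠ 0 := by
      rintro rfl
      have h1 := hσ ((φ ⟨_, hst⟩).symm (e'.symm 1))
      rw [zero_mul] at h1
      change e' (φ ⟨_, hst⟩ ((φ ⟨_, hst⟩).symm (e'.symm 1))) = 0 at h1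
      rw [LinearEquiv.apply_symm_apply, AddEquiv.apply_symm_apply] at h1
      exact one_ne_zero h1
    refine ⟨Units.mk0 (τ a) (by simpa using ha), E (Additive.ofMul n), (τ.symm.trans σ).trans τ, fun x => ?_⟩
    obtain ⟨m, hm⟩ := hbij.2 (e.symm x)
    replace hm : (m : G) • o = e.symm x := hm
    have hx : x = E (Additive.ofMul m) := by rw [← he m, hm, Equiv.apply_symm_apply]
    show e (g • e.symm x) = τ a * τ (σ (τ.symm x)) + E (Additive.ofMul n)
    rw [← hm, hx, show g • (m : G) • o = (n : G) • ((n : G)⁻¹ * g) • (m : G) • o by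
      rw [smul_smul (n : G), mul_inv_cancel_left]]
    rw [show ((n : G)⁻¹ * g) • (m : G) • o = _ from hφ ⟨_, hst⟩ m, smul_smul, ← Subgroup.coe_mul, he]
    rw [show τ.symm (E (Additive.ofMul m)) = e' (Additive.ofMul m) from τ.symm_apply_apply _,
      ← map_mul, ← hσ, ofMul_mul, map_add, add_comm]
    rfl
  · refine ⟨(E.symm b).toMul, fun x => ?_⟩
    obtain ⟨m, hm⟩ := hbij.2 x
    replace hm : (m : G) • o = x := hm
    show e (((E.symm b).toMul : G) • x) = e x + b
    rw [← hm, smul_smul, ← Subgroup.coe_mul, he, he, ofMul_mul, map_add, ofMul_toMul,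
      AddEquiv.apply_symm_apply, add_comm]

end Cfsg.Agent.Perm.Kantor
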